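import Groth.Prelude.Def_RDer
import Mathlib.Algebra.Homology.ShortComplex.ExactFunctor

/-!
# The first edge map is an isomorphism when the higher derived functors of the inner functor vanish
-/

set_option autoImplicit false
set_option linter.all false
set_option backward.isDefEq.respectTransparency false

universe v₁ v₂ v₃ u₁ u₂ u₃

open CategoryTheory CategoryTheory.Limits HomologicalComplex

noncomputable section

namespace EdgeBijLib

variable {A : Type u₁} [Category.{v₁} A] [Abelian A] [HasInjectiveResolutions A]
  {B : Type u₂} [Category.{v₂} B] [Abelian B]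
  (Φ : A ⥤ B) [Φ.Additive] [PreservesFiniteLimits Φ] (X : A)

theorem quasiIso_mapAug (hR : ∀ n : ℕ, IsZero ((Φ.rightDerived (n + 1)).obj X)) :
    QuasiIso (RDer.mapAug Φ (injectiveResolution X).ι) := by
  refine ⟨fun n => ?_⟩
  cases n with
  | zero =>
    rw [CochainComplex.quasiIsoAt₀_iff, ShortComplex.quasiIso_iff_of_zeros]
    · refine (ShortComplex.exact_and_mono_f_iff_of_iso ?_).2
        (⟨(RDer.res_exact₀ _ (injectiveResolution X).ι).map_of_mono_of_preservesKernel Φ
          (by dsimp; infer_instance) inferInstance, inferInstanceAs (Mono (Φ.map ((injectiveResolution X).ι.f 0)))⟩ :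
          ((ShortComplex.mk _ _ (RDer.res_ι_d _ (injectiveResolution X).ι)).map Φ).Exact ∧
            Mono ((ShortComplex.mk _ _ (RDer.res_ι_d _ (injectiveResolution X).ι)).map Φ).f)
      exact ShortComplex.isoMk (Iso.refl _) (Iso.refl _) (Iso.refl _)
        (by simp [HomologicalComplex.singleMapHomologicalComplex_inv_app_self]; exact (Category.id_comp _).symm) (by simp)
    all_goals simp
  | succ n =>
    rw [quasiIsoAt_iff_exactAt _ _ (CochainComplex.exactAt_succ_single_obj _ _)]
    rw [HomologicalComplex.exactAt_iff_isZero_homology]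
    exact (hR n).of_iso ((injectiveResolution X).isoRightDerivedObj Φ (n + 1)).symm

variable [HasInjectiveResolutions B] [Φ.PreservesInjectiveObjects] {C : Type u₃} [Category.{v₃} C] [Abelian C]
  (Ψ : B ⥤ C) [Ψ.Additive]

theorem isIso_edgeIn (hR : ∀ n : ℕ, IsZero ((Φ.rightDerived (n + 1)).obj X)) (q : ℕ) :
    IsIso (RDer.edgeIn Φ Ψ q X) := by
  haveI := quasiIso_mapAug Φ X hR
  let J : InjectiveResolution (Φ.obj X) :=
    { cocomplex := (Φ.mapHomologicalComplex _).obj (injectiveResolution X).cocomplex
      ι := RDer.mapAug Φ (injectiveResolution X).ι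
      quasiIso := inferInstance }
  let φ : (injectiveResolution (Φ.obj X)).cocomplex ⟶ J.cocomplex :=
    RDer.descToInjectives (𝟙 (Φ.obj X)) (injectiveResolution (Φ.obj X)).cocomplex (injectiveResolution (Φ.obj X)).ι
      ((Φ.mapHomologicalComplex _).obj (injectiveResolution X).cocomplex)
      (RDer.mapAug Φ (injectiveResolution X).ι)
  let e := InjectiveResolution.homotopyEquiv (injectiveResolution (Φ.obj X)) J
  have h : Homotopy φ e.hom := by
    refine InjectiveResolution.descHomotopy (𝟙 (Φ.obj X)) φ e.hom ?_ ?_
    · refine (CochainComplex.fromSingle₀Equiv _ _).injective (Subtype.ext ?_)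
      simp only [CategoryTheory.Functor.map_id, Category.id_comp]
      exact RDer.ι_descToInjectives_f_zero (𝟙 (Φ.obj X)) _ _ _ _ |>.trans (Category.id_comp _)
    · rw [InjectiveResolution.homotopyEquiv_hom_ι, CategoryTheory.Functor.map_id, Category.id_comp]
  have h2 : (HomologicalComplex.homologyFunctor C _ q).map ((Ψ.mapHomologicalComplex _).map φ) =
      ((Ψ.mapHomotopyEquiv e).toHomologyIso q).hom :=
    (Ψ.mapHomotopy h).homologyMap_eq q
  haveI : IsIso ((HomologicalComplex.homologyFunctor C _ q).map ((Ψ.mapHomologicalComplex _).map φ)) := by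
    rw [h2]; infer_instance
  unfold RDer.edgeIn
  infer_instance

end EdgeBijLib

end
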