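import Groth.Agent.S14451
import Groth.Agent.CohCmpLib.Pull
import Groth.Agent.RpushLib.Ab
import Groth.Agent.QCohLib.Push
import Groth.Agent.FModLib.AdjExt

/-!
# The edge map on cohomology is bijective when higher direct images vanish
-/

set_option autoImplicit false
set_option maxHeartbeats 1000000
set_option backward.isDefEq.respectTransparency false
set_option backward.isDefEq.respectTransparency.types false

universe u

open CategoryTheory CategoryTheory.Limits AlgebraicGeometry TopologicalSpace Opposite
open CategoryTheory.Abelian (Ext)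

noncomputable section

namespace EdgeBijLib

theorem isIso_oneTo {X Y : TopCat.{u}} (f : X ⟶ Y) : IsIso (CohPull.oneTo f) := by
  let e := (CohPull.adjZ X).leftAdjointUniq ((CohPull.adjZ Y).comp (CohPull.invPushAdj f))
  have h : CohPull.oneTo f = e.hom.app (AddCommGrpCat.of (ULift.{u} ℤ)) := by
    apply ((CohPull.adjZ X).homEquiv _ _).injective
    refine (Equiv.apply_symm_apply _ _).trans ?_
    change _ = (CohPull.adjZ X).homEquiv _
      ((constantSheaf (Opens.grothendieckTopology Y) AddCommGrpCat.{u} ⋙ CohPull.inv f).obj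
        (AddCommGrpCat.of (ULift.{u} ℤ)))
      (((CohPull.adjZ X).leftAdjointUniq ((CohPull.adjZ Y).comp (CohPull.invPushAdj f))).hom.app _)
    refine Eq.trans ?_ (Adjunction.homEquiv_leftAdjointUniq_hom_app (CohPull.adjZ X)
      ((CohPull.adjZ Y).comp (CohPull.invPushAdj f)) (AddCommGrpCat.of (ULift.{u} ℤ))).symm
    rw [Adjunction.comp_unit_app]
    change CohPull.oneSec Y ≫ _ = (CohPull.adjZ Y).unit.app (AddCommGrpCat.of (ULift.{u} ℤ)) ≫ _
    refine congrArg₂ (· ≫ ·) ?_ rfl
    exact ((CohPull.adjZ Y).homEquiv_unit _ _ _).trans (by simp)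
  rw [h]
  infer_instance

variable {X Y : Scheme.{u}} (f : X ⟶ Y)

theorem theta_counit (G : X.Modules) :
    CohPull.theta f ((Scheme.Modules.pushforward f).obj G) ≫
      (SheafOfModules.toSheaf X.ringCatSheaf).map
        ((Scheme.Modules.pullbackPushforwardAdjunction f).counit.app G) =
      (CohPull.invPushAdj f.base).counit.app (Coh.toAb G) := by
  apply ((CohPull.invPushAdj f.base).homEquiv _ _).injective
  refine (((CohPull.invPushAdj f.base).homEquiv_naturality_right _ _).trans
    (congrArg (· ≫ _) (CohCmpLib.theta_adj f _))).trans ?_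
  change _ = (CohPull.invPushAdj f.base).homEquiv ((CohTop.push f.base).obj (Coh.toAb G)) (Coh.toAb G)
    ((CohPull.invPushAdj f.base).counit.app (Coh.toAb G))
  rw [Adjunction.homEquiv_unit, Adjunction.right_triangle_components]
  refine Eq.trans ?_ ((SheafOfModules.toSheaf Y.ringCatSheaf).map_id ((Scheme.Modules.pushforward f).obj G))
  refine Eq.trans ?_ (congrArg (SheafOfModules.toSheaf Y.ringCatSheaf).map
    ((Scheme.Modules.pullbackPushforwardAdjunction f).right_triangle_components G))
  exact ((SheafOfModules.toSheaf Y.ringCatSheaf).map_comp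
    ((Scheme.Modules.pullbackPushforwardAdjunction f).unit.app ((Scheme.Modules.pushforward f).obj G))
    ((Scheme.Modules.pushforward f).map ((Scheme.Modules.pullbackPushforwardAdjunction f).counit.app G))).symm

/-- The edge map is bijective when the higher direct images of the underlying abelian sheaf vanish. -/
theorem pushEdge_bijective (G : X.Modules)
    (h : ∀ q : ℕ, 0 < q → IsZero ((Coh.RpushAb f q).obj (Coh.toAb G))) (p : ℕ) :
    Function.Bijective (CohPull.pushEdge f G p) := by
  let adj := CohPull.invPushAdj f.base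
  haveI : (CohTop.push f.base).Additive := adj.right_adjoint_additive
  haveI : PreservesLimitsOfSize.{0, 0} (CohTop.push f.base) := adj.rightAdjoint_preservesLimits
  haveI : PreservesFiniteLimits (CohTop.push f.base) := PreservesLimitsOfSize.preservesFiniteLimits _
  let A := CohTop.const Y (ULift.{u} ℤ)
  have hb := Groth.Agent.S14451.extAdj'_bijective adj A p (Coh.toAb G) fun q => h (q + 1) (Nat.succ_pos q)
  haveI := isIso_oneTo f.base
  have hpre : Function.Bijective fun e : Ext ((CohPull.inv f.base).obj A) (Coh.toAb G) p =>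
      (Ext.mk₀ (CohPull.oneTo f.base)).comp e (zero_add p) := by
    refine Function.bijective_iff_has_inverse.2
      ⟨fun e => (Ext.mk₀ (inv (CohPull.oneTo f.base))).comp e (zero_add p), fun e => ?_, fun e => ?_⟩
    · change (Ext.mk₀ _).comp ((Ext.mk₀ _).comp e _) _ = e
      rw [Ext.mk₀_comp_mk₀_assoc, IsIso.inv_hom_id, Ext.mk₀_id_comp]
    · change (Ext.mk₀ _).comp ((Ext.mk₀ _).comp e _) _ = e
      rw [Ext.mk₀_comp_mk₀_assoc, IsIso.hom_inv_id, Ext.mk₀_id_comp]
  have e : (CohPull.pushEdge f G p : _ → _) =
      (fun e : Ext ((CohPull.inv f.base).obj A) (Coh.toAb G) p =>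
        (Ext.mk₀ (CohPull.oneTo f.base)).comp e (zero_add p)) ∘
        Groth.Agent.S14451.extAdj' adj A (Coh.toAb G) p := by
    funext x
    change (((Ext.mk₀ (CohPull.oneTo f.base)).comp (Ext.mapExactFunctor (CohPull.inv f.base) x) (zero_add p)).comp
        (Ext.mk₀ (CohPull.theta f _)) (add_zero p)).comp (Ext.mk₀ _) (add_zero p) =
      (Ext.mk₀ (CohPull.oneTo f.base)).comp ((Ext.mapExactFunctor (CohPull.inv f.base) x).comp
        (Ext.mk₀ (adj.counit.app (Coh.toAb G))) (add_zero p)) (zero_add p)
    rw [Ext.comp_assoc_of_second_deg_zero, Ext.mk₀_comp_mk₀, theta_counit]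
    exact Ext.comp_assoc _ _ _ (zero_add p) (add_zero p) (by omega)
  rw [e]
  exact hpre.comp hb

theorem isZero_RpushAb_of_Rpush [HasInjectiveResolutions X.Modules] (G : X.Modules)
    (h : ∀ q : ℕ, 0 < q → IsZero ((Coh.Rpush f q).obj G)) (q : ℕ) (hq : 0 < q) :
    IsZero ((Coh.RpushAb f q).obj (Coh.toAb G)) := by
  obtain ⟨e⟩ := RpushLib.nonempty_toAb_rpush_iso f G q
  haveI : (SheafOfModules.toSheaf Y.ringCatSheaf).PreservesZeroMorphisms := inferInstance
  exact (Functor.map_isZero (SheafOfModules.toSheaf Y.ringCatSheaf) (h q hq)).of_iso e.symm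

end EdgeBijLib

end
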