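import Groth.Agent.RDerLib.LeftExact
import Groth.Agent.RpushLib.Comp
import Groth.Agent.RpushLib.Push
import Groth.Agent.TildeDerLib.Push
import Groth.Agent.EdgeBijLib.Main
import Groth.Agent.ModSiteLib.Grothendieck
import Groth.Prelude.Def_CohBC2

/-!
# The second edge map is an isomorphism when the outer functor is acyclic on terms and homology
-/

set_option autoImplicit false
set_option linter.style.haveILetI false
set_option maxHeartbeats 1000000
set_option backward.isDefEq.respectTransparency false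
set_option backward.isDefEq.respectTransparency.types false

universe u v₂ v₃ u₂ u₃

open CategoryTheory CategoryTheory.Limits HomologicalComplex
open Groth.Agent

noncomputable section

namespace EdgeBijLib

section Abstract

variable {B : Type u₂} [Category.{v₂} B] [Abelian B] [HasInjectiveResolutions B]
  {C : Type u₃} [Category.{v₃} C] [Abelian C]
  (Ψ : B ⥤ C) [Ψ.Additive] [PreservesFiniteLimits Ψ] (K : CochainComplex B ℕ)

/-- The vanishing of all positive derived functors. -/
def Ac (Y : B) : Prop := ∀ q, IsZero ((Ψ.rightDerived (q + 1)).obj Y)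

variable {Ψ} in
theorem Ac.of_iso {Y Y' : B} (h : Ac Ψ Y) (e : Y ≅ Y') : Ac Ψ Y' :=
  fun q => (h q).of_iso ((Ψ.rightDerived (q + 1)).mapIso e.symm)

theorem isIso_cyclesComparison (i : ℕ) : IsIso (RDer.cyclesComparison Ψ K i) := by
  let hl := KernelFork.mapIsLimit _ (K.cyclesIsKernel i ((ComplexShape.up ℕ).next i) rfl) Ψ
  let e := (((Ψ.mapHomologicalComplex (ComplexShape.up ℕ)).obj K).cyclesIsKernel i _ rfl).conePointUniqueUpToIso hl
  have : RDer.cyclesComparison Ψ K i = e.hom := by
    apply Fork.IsLimit.hom_ext hl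
    exact (hl.fac _ WalkingParallelPair.zero).trans
      (IsLimit.conePointUniqueUpToIso_hom_comp _ hl WalkingParallelPair.zero).symm
  rw [this]
  infer_instance

/-- `0 → Z^p → K^p → B^{p+1} → 0`. -/
abbrev cySeq (p : ℕ) : ShortComplex B :=
  ShortComplex.mk (K.iCycles p) (cokernel.π (K.iCycles p)) (cokernel.condition _)

omit [HasInjectiveResolutions B] in
theorem cySeq_shortExact (p : ℕ) : (cySeq K p).ShortExact :=
  { exact := ShortComplex.exact_of_g_is_cokernel _ (cokernelIsCokernel _) }

omit [HasInjectiveResolutions B] in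
theorem iCycles_toCycles (p : ℕ) : K.iCycles p ≫ K.toCycles p (p + 1) = 0 := by
  rw [← cancel_mono (K.iCycles (p + 1)), Category.assoc, toCycles_i, iCycles_d, zero_comp]

/-- `B^{p+1} → Z^{p+1} → H^{p+1}`. -/
abbrev bdSeq (p : ℕ) : ShortComplex B :=
  ShortComplex.mk (cokernel.desc (K.iCycles p) (K.toCycles p (p + 1)) (iCycles_toCycles K p))
    (K.homologyπ (p + 1)) (by
      rw [← cancel_epi (cokernel.π (K.iCycles p)), cokernel.π_desc_assoc, toCycles_comp_homologyπ, comp_zero])

omit [HasInjectiveResolutions B] in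
theorem bdSeq_shortExact (p : ℕ) : (bdSeq K p).ShortExact := by
  let a := cokernel.desc (K.iCycles p) (K.toCycles p (p + 1)) (iCycles_toCycles K p)
  have hm : Mono a := by
    let hex : (ShortComplex.mk (K.iCycles p) (K.d p (p + 1)) (K.iCycles_d p (p + 1))).Exact :=
      ShortComplex.exact_of_f_is_kernel _ (K.cyclesIsKernel p (p + 1) (by simp))
    have hfac : a ≫ K.iCycles (p + 1) = cokernel.desc (K.iCycles p) (K.d p (p + 1)) (K.iCycles_d p (p + 1)) := by
      rw [← cancel_epi (cokernel.π (K.iCycles p))]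
      simp [a]
    have := (ShortComplex.exact_iff_mono_cokernel_desc _).mp hex
    have : Mono (a ≫ K.iCycles (p + 1)) := by rw [hfac]; exact this
    exact mono_of_mono a (K.iCycles (p + 1))
  have he : (bdSeq K p).Exact := by
    have h1 := ShortComplex.exact_of_g_is_cokernel
      (ShortComplex.mk (K.toCycles p (p + 1)) (K.homologyπ (p + 1)) (toCycles_comp_homologyπ K p (p + 1)))
      (K.homologyIsCokernel p (p + 1) (by simp))
    exact (ShortComplex.exact_iff_of_epi_of_isIso_of_mono
      ({ τ₁ := cokernel.π (K.iCycles p), τ₂ := 𝟙 _, τ₃ := 𝟙 _ } :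
        ShortComplex.mk (K.toCycles p (p + 1)) (K.homologyπ (p + 1)) (toCycles_comp_homologyπ K p (p + 1)) ⟶ bdSeq K p)).mp h1
  exact { exact := he, mono_f := hm, epi_g := (inferInstance : Epi (K.homologyπ (p + 1))) }

variable (hX : ∀ p, Ac Ψ (K.X p)) (hH : ∀ p, Ac Ψ (K.homology p))

include hX hH in
theorem ac_cycles : ∀ p, Ac Ψ (K.cycles p) := by
  intro p
  induction p with
  | zero => exact (hH 0).of_iso (asIso (K.homologyπ 0)).symm
  | succ p ih =>
    have hB : Ac Ψ (cySeq K p).X₃ := fun q => RDerLib.isZero_X₃ (cySeq_shortExact K p) (q + 1) (ih (q + 1)) (hX p q)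
    exact fun q => RDerLib.isZero_X₂ (bdSeq_shortExact K p) (q + 1) (hB q) (hH (p + 1) q)

include hX hH in
theorem isIso_homologyComparison (n : ℕ) : IsIso (RDer.homologyComparison Ψ K n) := by
  haveI := isIso_cyclesComparison Ψ K n
  let L := (Ψ.mapHomologicalComplex (ComplexShape.up ℕ)).obj K
  let c := RDer.cyclesComparison Ψ K n
  obtain ⟨hepi, hex⟩ : Epi (Ψ.map (K.homologyπ n)) ∧
      (ShortComplex.mk (Ψ.map (K.toCycles ((ComplexShape.up ℕ).prev n) n)) (Ψ.map (K.homologyπ n))
        (by rw [← Ψ.map_comp, toCycles_comp_homologyπ, Ψ.map_zero])).Exact := by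
    cases n with
    | zero =>
      haveI : IsIso (Ψ.map (K.homologyπ 0)) := inferInstance
      refine ⟨inferInstance, ?_⟩
      have h0 : K.toCycles ((ComplexShape.up ℕ).prev 0) 0 = 0 := by
        rw [← cancel_mono (K.iCycles 0), toCycles_i, zero_comp, K.shape]
        simp
      rw [ShortComplex.exact_iff_mono _ (show Ψ.map (K.toCycles ((ComplexShape.up ℕ).prev 0) 0) = 0 by
        rw [h0, Ψ.map_zero])]
      exact (inferInstance : Mono (Ψ.map (K.homologyπ 0)))
    | succ p =>
      have hp : (ComplexShape.up ℕ).prev (p + 1) = p := by simp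
      rw [hp]
      have hZ := ac_cycles Ψ K hX hH p
      have hB : Ac Ψ (cySeq K p).X₃ := fun q =>
        RDerLib.isZero_X₃ (cySeq_shortExact K p) (q + 1) (hZ (q + 1)) (hX p q)
      have e1 : Epi (Ψ.map (cokernel.π (K.iCycles p))) :=
        (RDerLib.epi_map_g_iff _).1 (RDerLib.epi_map_g (cySeq_shortExact K p) 0 (hZ 0))
      have e2 : Epi (Ψ.map (K.homologyπ (p + 1))) :=
        (RDerLib.epi_map_g_iff _).1 (RDerLib.epi_map_g (bdSeq_shortExact K p) 0 (hB 0))
      refine ⟨e2, ?_⟩
      exact (ShortComplex.exact_iff_of_epi_of_isIso_of_mono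
        ({ τ₁ := Ψ.map (cokernel.π (K.iCycles p)), τ₂ := 𝟙 _, τ₃ := 𝟙 _,
           comm₁₂ := by rw [Category.comp_id]; exact (Ψ.map_comp _ _).symm.trans (congrArg Ψ.map (cokernel.π_desc _ _ _)) } :
          ShortComplex.mk (Ψ.map (K.toCycles p (p + 1))) (Ψ.map (K.homologyπ (p + 1)))
            (by rw [← Ψ.map_comp, toCycles_comp_homologyπ, Ψ.map_zero]) ⟶ (bdSeq K p).map Ψ)).mpr
        (RDerLib.map_shortExact (bdSeq_shortExact K p) e2).exact
  let hc := hex.gIsCokernel
  have hd : Ψ.map (K.toCycles ((ComplexShape.up ℕ).prev n) n) ≫ inv c ≫ L.homologyπ n = 0 := by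
    rw [← RDer.toCycles_cyclesComparison Ψ K n, Category.assoc]
    erw [IsIso.hom_inv_id_assoc, toCycles_comp_homologyπ]
  let back : Ψ.obj (K.homology n) ⟶ L.homology n := hc.desc (CokernelCofork.ofπ (inv c ≫ L.homologyπ n) hd)
  have hb : Ψ.map (K.homologyπ n) ≫ back = inv c ≫ L.homologyπ n := hc.fac _ WalkingParallelPair.one
  refine ⟨back, ?_, ?_⟩
  · rw [← cancel_epi (L.homologyπ n), RDer.homologyπ_homologyComparison_assoc, hb]
    erw [IsIso.hom_inv_id_assoc, Category.comp_id]
  · rw [← cancel_epi (Ψ.map (K.homologyπ n)), ← Category.assoc, hb, Category.assoc,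
      RDer.homologyπ_homologyComparison]
    erw [IsIso.inv_hom_id_assoc, Category.comp_id]

variable {A : Type*} [Category A] [Abelian A] [HasInjectiveResolutions A] (Φ : A ⥤ B) [Φ.Additive] (X : A)

theorem isIso_edgeOut (hI : ∀ p, Ac Ψ (Φ.obj ((injectiveResolution X).cocomplex.X p)))
    (hR : ∀ p, Ac Ψ ((Φ.rightDerived p).obj X)) (q : ℕ) : IsIso (RDer.edgeOut Φ Ψ q X) := by
  haveI := isIso_homologyComparison Ψ ((Φ.mapHomologicalComplex _).obj (injectiveResolution X).cocomplex)
    hI (fun p => (hR p).of_iso ((injectiveResolution X).isoRightDerivedObj Φ p)) q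
  unfold RDer.edgeOut
  infer_instance

end Abstract

open AlgebraicGeometry Scheme.Modules

attribute [local instance] HasDerivedCategory.standard

theorem isIso_lerayEdgeOut {X Y Z : Scheme.{u}} (f : X ⟶ Y) (g : Y ⟶ Z) [QuasiCompact f] [QuasiSeparated f]
    [IsAffineHom g] [HasInjectiveResolutions X.Modules] (M : X.Modules) [Coh.IsQCoh M] (p : ℕ) :
    IsIso (CohBC.lerayEdgeOut f g p M) := by
  haveI : PreservesLimitsOfSize.{0, 0} (pushforward g) :=
    (pullbackPushforwardAdjunction g).rightAdjoint_preservesLimits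
  haveI : PreservesFiniteLimits (pushforward g) := PreservesLimitsOfSize.preservesFiniteLimits _
  have hQ : ∀ n, Ac (pushforward g) ((Coh.Rpush f n).obj M) := fun n q => by
    haveI := RpushLib.isQCoh_Rpush f M n
    exact TildeDerLib.isZero_Rpush_affine g _ (q + 1) (Nat.succ_pos q)
  have hF : ∀ n, Ac (pushforward g) ((pushforward f).obj ((injectiveResolution M).cocomplex.X n)) := fun n q => by
    haveI : TopCat.Sheaf.IsFlasque ((QCohLib.toAbF Y).obj ((pushforward f).obj ((injectiveResolution M).cocomplex.X n)) :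
        TopCat.Sheaf AddCommGrpCat.{u} Y.toTopCat) := by
      haveI := RpushLib.isFlasque_toAb_injective ((injectiveResolution M).cocomplex.X n)
      exact QCohLib.isFlasque_pf (f := f.base) ((QCohLib.toAbF X).obj ((injectiveResolution M).cocomplex.X n))
    exact (SpSeqLib.isSAcyclic_iff _ _).mp (RpushLib.isSAcyclic_pushforward g _) (q + 1) (Nat.succ_pos q)
  haveI := isIso_edgeOut (pushforward g) (pushforward f) M hF hQ p
  unfold CohBC.lerayEdgeOut
  infer_instance

end EdgeBijLib

end
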